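import Mathlib

/-!
# S5925 (hub helper114), box D: relations of `L₂(11)` on a module in characteristic `3` (helper779)

`X, Y, T` satisfy `X¹¹ = Y⁵ = T² = (XT)³ = 1`, `Y X Y⁻¹ = X³`, `T Y T = Y⁻¹`. For `v` fixed by `X`, `Y`:

* `T_XQ` : `T X_Q T v = X_N T v`, `T_pow` : `T X^i T v = X^(-1/i) T v`;
* `s_fixed` : `s v = v + ∑_{i<11} X^i T v` is fixed by `X, Y, T`;
* `fplus_inj` : if there are no common fixed vectors then `v ↦ (1 + X_Q) T v` is injective on the vectors fixed by `X, Y`.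
-/

set_option autoImplicit false

namespace Cfsg.Agent.H779.L11

universe u v

/-- the relations of `L₂(11)` -/
structure Rel {M : Type u} [Monoid M] (X Y T : M) : Prop where
  x11 : X ^ 11 = 1
  y5 : Y ^ 5 = 1
  t2 : T * T = 1
  xt : X * T * (X * T) * (X * T) = 1
  yx : Y * X = X ^ 3 * Y
  ty : T * Y = Y ^ 4 * T

namespace Rel

section monoid

variable {M : Type u} [Monoid M] {X Y T : M}

theorem txt (h : Rel X Y T) : T * X * T = X ^ 10 * T * X ^ 10 := by
  have h1 : X ^ 10 * X = 1 := by rw [← pow_succ]; exact h.x11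
  have h2 : X * X ^ 10 = 1 := by rw [← pow_succ']; exact h.x11
  calc T * X * T = X ^ 10 * X * T * X * T * (X * X ^ 10) := by rw [h1, h2, one_mul, mul_one]
    _ = X ^ 10 * (X * T * (X * T) * X) * X ^ 10 := by simp only [mul_assoc]
    _ = X ^ 10 * (X * T * (X * T) * (X * (T * T))) * X ^ 10 := by rw [h.t2, mul_one]
    _ = X ^ 10 * (X * T * (X * T) * (X * T)) * T * X ^ 10 := by simp only [mul_assoc]
    _ = X ^ 10 * T * X ^ 10 := by rw [h.xt, mul_one]

theorem tx10t (h : Rel X Y T) : T * X ^ 10 * T = X * T * X := by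
  have h1 : X ^ 10 * X = 1 := by rw [← pow_succ]; exact h.x11
  have h2 : X * X ^ 10 = 1 := by rw [← pow_succ']; exact h.x11
  have h3 : (T * X ^ 10 * T) * (X ^ 10 * T * X ^ 10) = 1 := by
    rw [← h.txt]
    calc T * X ^ 10 * T * (T * X * T) = T * (X ^ 10 * (T * T) * X) * T := by simp only [mul_assoc]
      _ = 1 := by rw [h.t2, mul_one, h1, mul_one, h.t2]
  calc T * X ^ 10 * T = (T * X ^ 10 * T) * (X ^ 10 * (T * (X ^ 10 * X) * T) * X) := by
        rw [h1, mul_one, h.t2, mul_one, h1, mul_one]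
    _ = ((T * X ^ 10 * T) * (X ^ 10 * T * X ^ 10)) * (X * T * X) := by simp only [mul_assoc]
    _ = X * T * X := by rw [h3, one_mul]

theorem yxp (h : Rel X Y T) (n : ℕ) : Y * X ^ n = X ^ (3 * n) * Y := by
  induction n with
  | zero => simp
  | succ n ih => rw [pow_succ, ← mul_assoc, ih, mul_assoc, h.yx, ← mul_assoc, ← pow_add, mul_add, mul_one]

theorem y4xp (h : Rel X Y T) (n : ℕ) : Y ^ 4 * X ^ n = X ^ (81 * n) * Y ^ 4 := by
  have e : ∀ m, Y * X ^ m = X ^ (3 * m) * Y := h.yxp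
  calc Y ^ 4 * X ^ n = Y * (Y * (Y * (Y * X ^ n))) := by simp only [pow_succ, pow_zero, one_mul, mul_assoc]
    _ = X ^ (3 * (3 * (3 * (3 * n)))) * Y ^ 4 := by
        rw [e, ← mul_assoc Y (X ^ (3 * n)), e, mul_assoc, ← mul_assoc Y (X ^ (3 * (3 * n))), e, mul_assoc,
          ← mul_assoc Y (X ^ (3 * (3 * (3 * n)))), e]
        simp only [pow_succ, pow_zero, one_mul, mul_assoc]
    _ = X ^ (81 * n) * Y ^ 4 := by
        congr 2
        ring

theorem xmod (h : Rel X Y T) {m n : ℕ} (e : m % 11 = n % 11) : X ^ m = X ^ n := by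
  have key : ∀ a : ℕ, X ^ a = X ^ (a % 11) := by
    intro a
    conv_lhs => rw [← Nat.div_add_mod a 11, pow_add, pow_mul, h.x11, one_pow, one_mul]
  rw [key m, key n, e]

end monoid

theorem map {M : Type u} [Monoid M] {N : Type v} [Monoid N] {X Y T : M} (h : Rel X Y T) (f : M →* N) :
    Rel (f X) (f Y) (f T) where
  x11 := by rw [← map_pow, h.x11, map_one]
  y5 := by rw [← map_pow, h.y5, map_one]
  t2 := by rw [← map_mul, h.t2, map_one]
  xt := by simp only [← map_mul]; rw [h.xt, map_one]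
  yx := by rw [← map_mul, h.yx, map_mul, map_pow]
  ty := by rw [← map_mul, h.ty, map_mul, map_pow]

theorem of_group {G : Type u} [Group G] {x y t : G} (x11 : x ^ 11 = 1) (y5 : y ^ 5 = 1) (t2 : t ^ 2 = 1)
    (xt : (x * t) ^ 3 = 1) (yx : y * x * y⁻¹ = x ^ 3) (ty : t * y * t⁻¹ = y⁻¹) : Rel x y t where
  x11 := x11
  y5 := y5
  t2 := by rw [← sq]; exact t2
  xt := by
    rw [← xt, pow_succ, pow_succ, pow_one]
  yx := by rw [← yx, inv_mul_cancel_right]
  ty := by
    have e : y⁻¹ = y ^ 4 := by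
      rw [inv_eq_iff_mul_eq_one, ← pow_succ']
      exact y5
    rw [← e, ← ty, inv_mul_cancel_right]

section module

variable {k : Type u} [Ring k] {V : Type v} [AddCommGroup V] [Module k V] {X Y T : Module.End k V}

/-- fixed by `X` and `Y` -/
structure Fx (X Y : Module.End k V) (v : V) : Prop where
  x : X v = v
  y : Y v = v

theorem Fx.xp {v : V} (f : Fx X Y v) (n : ℕ) : (X ^ n) v = v := by
  induction n with
  | zero => rfl
  | succ n ih => rw [pow_succ, Module.End.mul_apply, f.x, ih]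

theorem Fx.yp {v : V} (f : Fx X Y v) (n : ℕ) : (Y ^ n) v = v := by
  induction n with
  | zero => rfl
  | succ n ih => rw [pow_succ, Module.End.mul_apply, f.y, ih]

theorem tt (h : Rel X Y T) (w : V) : T (T w) = w := by
  have := congrArg (fun f : Module.End k V => f w) h.t2
  simpa using this

/-- `Y⁴ T v = T v` and `Y T v = T v` -/
theorem y4t (h : Rel X Y T) {v : V} (f : Fx X Y v) : (Y ^ 4) (T v) = T v := by
  have := congrArg (fun f : Module.End k V => f v) h.ty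
  simp only [Module.End.mul_apply, f.y] at this
  exact this.symm

theorem yt (h : Rel X Y T) {v : V} (f : Fx X Y v) : Y (T v) = T v := by
  have h1 := h.y4t f
  have h2 : (Y ^ 5) (T v) = T v := by rw [h.y5]; rfl
  rw [pow_succ', Module.End.mul_apply, h1] at h2
  exact h2

/-- `(i, j)` is good: `T X^i T v = X^j T v` -/
theorem step (h : Rel X Y T) {v : V} (f : Fx X Y v) {i j : ℕ} (e : T ((X ^ i) (T v)) = (X ^ j) (T v)) :
    T ((X ^ (3 * i)) (T v)) = (X ^ (81 * j)) (T v) := by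
  have h1 : (X ^ (3 * i)) (T v) = Y ((X ^ i) (T v)) := by
    have := congrArg (fun g : Module.End k V => g (T v)) (h.yxp i)
    simp only [Module.End.mul_apply, h.yt f] at this
    exact this.symm
  have h2 : ∀ w : V, T (Y w) = (Y ^ 4) (T w) := by
    intro w
    have := congrArg (fun g : Module.End k V => g w) h.ty
    simpa only [Module.End.mul_apply] using this
  have h3 : (Y ^ 4) ((X ^ j) (T v)) = (X ^ (81 * j)) (T v) := by
    have := congrArg (fun g : Module.End k V => g (T v)) (h.y4xp j)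
    simp only [Module.End.mul_apply, h.y4t f] at this
    exact this
  rw [h1, h2, e, h3]

theorem good (h : Rel X Y T) {v : V} (f : Fx X Y v) {i j : ℕ} (i' j' : ℕ) (e : T ((X ^ i) (T v)) = (X ^ j) (T v))
    (hi : (3 * i) % 11 = i' % 11) (hj : (81 * j) % 11 = j' % 11) : T ((X ^ i') (T v)) = (X ^ j') (T v) := by
  rw [← h.xmod hi, ← h.xmod hj]
  exact h.step f e

/-- `T X^i T v = X^(-1/i) T v` -/
theorem T_pow (h : Rel X Y T) {v : V} (f : Fx X Y v) :
    T ((X ^ 1) (T v)) = (X ^ 10) (T v) ∧ T ((X ^ 2) (T v)) = (X ^ 5) (T v) ∧ T ((X ^ 3) (T v)) = (X ^ 7) (T v) ∧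
    T ((X ^ 4) (T v)) = (X ^ 8) (T v) ∧ T ((X ^ 5) (T v)) = (X ^ 2) (T v) ∧ T ((X ^ 6) (T v)) = (X ^ 9) (T v) ∧
    T ((X ^ 7) (T v)) = (X ^ 3) (T v) ∧ T ((X ^ 8) (T v)) = (X ^ 4) (T v) ∧ T ((X ^ 9) (T v)) = (X ^ 6) (T v) ∧
    T ((X ^ 10) (T v)) = (X ^ 1) (T v) := by
  have e1 : T ((X ^ 1) (T v)) = (X ^ 10) (T v) := by
    have := congrArg (fun g : Module.End k V => g v) h.txt
    simp only [Module.End.mul_apply, f.xp] at this
    rw [pow_one]
    exact this
  have e10 : T ((X ^ 10) (T v)) = (X ^ 1) (T v) := by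
    have := congrArg (fun g : Module.End k V => g v) h.tx10t
    simp only [Module.End.mul_apply, f.x] at this
    rw [pow_one]
    exact this
  have e3 := h.good f 3 7 e1 (by norm_num) (by norm_num)
  have e9 := h.good f 9 6 e3 (by norm_num) (by norm_num)
  have e5 := h.good f 5 2 e9 (by norm_num) (by norm_num)
  have e4 := h.good f 4 8 e5 (by norm_num) (by norm_num)
  have e8 := h.good f 8 4 e10 (by norm_num) (by norm_num)
  have e2 := h.good f 2 5 e8 (by norm_num) (by norm_num)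
  have e6 := h.good f 6 9 e2 (by norm_num) (by norm_num)
  have e7 := h.good f 7 3 e6 (by norm_num) (by norm_num)
  exact ⟨e1, e2, e3, e4, e5, e6, e7, e8, e9, e10⟩

/-- `X_Q` -/
def XQ (X : Module.End k V) : Module.End k V := X ^ 1 + X ^ 3 + X ^ 4 + X ^ 5 + X ^ 9
/-- `X_N` -/
def XN (X : Module.End k V) : Module.End k V := X ^ 2 + X ^ 6 + X ^ 7 + X ^ 8 + X ^ 10

theorem XQ_apply (w : V) : XQ X w = (X ^ 1) w + (X ^ 3) w + (X ^ 4) w + (X ^ 5) w + (X ^ 9) w := rfl
theorem XN_apply (w : V) : XN X w = (X ^ 2) w + (X ^ 6) w + (X ^ 7) w + (X ^ 8) w + (X ^ 10) w := rfl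

/-- `T X_Q T v = X_N T v` -/
theorem T_XQ (h : Rel X Y T) {v : V} (f : Fx X Y v) : T (XQ X (T v)) = XN X (T v) := by
  obtain ⟨e1, e2, e3, e4, e5, e6, e7, e8, e9, e10⟩ := h.T_pow f
  rw [XQ_apply, XN_apply, map_add, map_add, map_add, map_add, e1, e3, e4, e5, e9]
  abel

/-- `T X_N T v = X_Q T v` -/
theorem T_XN (h : Rel X Y T) {v : V} (f : Fx X Y v) : T (XN X (T v)) = XQ X (T v) := by
  rw [← h.T_XQ f, h.tt]

/-- the trace from `⟨X, Y⟩` to the whole group -/
def s (X T : Module.End k V) (v : V) : V := v + ∑ i ∈ Finset.range 11, (X ^ i) (T v)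

theorem s_eq (v : V) : s X T v = v + (T v + XQ X (T v) + XN X (T v)) := by
  rw [s, XQ_apply, XN_apply]
  simp only [Finset.sum_range_succ, Finset.sum_range_zero, pow_zero, Module.End.one_apply]
  abel

/-- **`s v` is fixed by `X`, `Y`, `T`** -/
theorem s_fixed (h : Rel X Y T) {v : V} (f : Fx X Y v) :
    X (s X T v) = s X T v ∧ Y (s X T v) = s X T v ∧ T (s X T v) = s X T v := by
  refine ⟨?_, ?_, ?_⟩
  · rw [s, map_add, f.x, map_sum]
    congr 1
    have e : ∀ i, X ((X ^ i) (T v)) = (X ^ (i + 1)) (T v) := fun i => by rw [pow_succ', Module.End.mul_apply]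
    simp only [e, Finset.sum_range_succ, Finset.sum_range_zero]
    have e11 : (X ^ (10 + 1)) (T v) = (X ^ 0) (T v) := by rw [h.x11, pow_zero]
    rw [e11]
    abel
  · rw [s, map_add, f.y, map_sum]
    congr 1
    have e : ∀ i, Y ((X ^ i) (T v)) = (X ^ (3 * i)) (T v) := fun i => by
      have := congrArg (fun g : Module.End k V => g (T v)) (h.yxp i)
      simp only [Module.End.mul_apply, h.yt f] at this
      exact this
    have r : ∀ i j : ℕ, (3 * i) % 11 = j % 11 → (X ^ (3 * i)) (T v) = (X ^ j) (T v) := fun i j hij => by rw [h.xmod hij]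
    simp only [e, Finset.sum_range_succ, Finset.sum_range_zero]
    rw [r 0 0 (by norm_num), r 1 3 (by norm_num), r 2 6 (by norm_num), r 3 9 (by norm_num), r 4 1 (by norm_num),
      r 5 4 (by norm_num), r 6 7 (by norm_num), r 7 10 (by norm_num), r 8 2 (by norm_num), r 9 5 (by norm_num),
      r 10 8 (by norm_num)]
    abel
  · rw [s_eq, map_add, map_add, map_add, h.T_XQ f, h.T_XN f, h.tt]
    abel

/-- **`f₊` is injective** -/
theorem fplus_inj (h : Rel X Y T) (h3 : (3 : k) = 0) (h0 : ∀ w : V, X w = w → Y w = w → T w = w → w = 0) {v : V}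
    (f : Fx X Y v) (hv : T v + XQ X (T v) = 0) : v = 0 := by
  have c3 : ∀ w : V, w + w + w = 0 := by
    intro w
    have : (3 : k) • w = w + w + w := by
      have e : (3 : k) = 1 + 1 + 1 := by norm_num
      rw [e, add_smul, add_smul, one_smul]
    rw [← this, h3, zero_smul]
  obtain ⟨g1, g2, g3⟩ := h.s_fixed f
  have hs := h0 _ g1 g2 g3
  rw [s_eq, hv, zero_add] at hs
  obtain ⟨e1, e2, e3, e4, e5, e6, e7, e8, e9, e10⟩ := h.T_pow f
  set b := T v - v with hb
  have eb : ∀ i, (X ^ i) b = (X ^ i) (T v) - v := fun i => by rw [hb, map_sub, f.xp]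
  have Tv : T v = b + v := by rw [hb]; abel
  -- `(1 + X_Q) b = 0`
  have r1 : b + (X ^ 1) b + (X ^ 3) b + (X ^ 4) b + (X ^ 5) b + (X ^ 9) b = 0 := by
    rw [XQ_apply] at hv
    have e : b + (X ^ 1) b + (X ^ 3) b + (X ^ 4) b + (X ^ 5) b + (X ^ 9) b =
        (T v + ((X ^ 1) (T v) + (X ^ 3) (T v) + (X ^ 4) (T v) + (X ^ 5) (T v) + (X ^ 9) (T v))) - ((v + v + v) + (v + v + v)) := by
      rw [eb, eb, eb, eb, eb]
      have : b = T v - v := hb
      conv_lhs => rw [this]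
      abel
    rw [e, hv, c3, add_zero, sub_zero]
  have r2 : (X ^ 2) b + (X ^ 6) b + (X ^ 7) b + (X ^ 8) b + (X ^ 10) b = 0 := by
    rw [XN_apply] at hs
    have e : (X ^ 2) b + (X ^ 6) b + (X ^ 7) b + (X ^ 8) b + (X ^ 10) b =
        (v + ((X ^ 2) (T v) + (X ^ 6) (T v) + (X ^ 7) (T v) + (X ^ 8) (T v) + (X ^ 10) (T v))) - ((v + v + v) + (v + v + v)) := by
      rw [eb, eb, eb, eb, eb]
      abel
    rw [e, hs, c3, add_zero, sub_zero]
  -- `T X^i b = X^(-1/i) b - b`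
  have tb : T b = - b := by
    rw [hb, map_sub, h.tt]
    abel
  have tx : ∀ i j, T ((X ^ i) (T v)) = (X ^ j) (T v) → T ((X ^ i) b) = (X ^ j) b - b := by
    intro i j e
    rw [eb, map_sub, e, eb, hb]
    abel
  have xx : ∀ i j, (X ^ i) ((X ^ j) b) = (X ^ (i + j)) b := fun i j => by rw [pow_add, Module.End.mul_apply]
  have m11 : ∀ i j : ℕ, i % 11 = j % 11 → (X ^ i) b = (X ^ j) b := fun i j e => by rw [h.xmod e]
  -- the third relation
  have r3 : (X ^ 3) b + (X ^ 4) b + (X ^ 6) b + (X ^ 7) b + b = 0 := by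
    have a1 := congrArg (fun w => T ((X ^ 1) w)) r2
    simp only [map_add, xx, map_zero] at a1
    rw [m11 (1 + 10) 0 (by norm_num)] at a1
    simp only [Nat.reduceAdd, pow_zero, Module.End.one_apply] at a1
    rw [tx 3 7 e3, tx 7 3 e7, tx 8 4 e8, tx 9 6 e9, tb] at a1
    have e : (X ^ 3) b + (X ^ 4) b + (X ^ 6) b + (X ^ 7) b + b = ((X ^ 7) b - b + ((X ^ 3) b - b) + ((X ^ 4) b - b) +
        ((X ^ 6) b - b) + -b) + ((b + b + b) + (b + b + b)) := by abel
    rw [e, a1, c3, add_zero, add_zero]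
  -- the final combination `2 X² r2 + X⁶ r1 + 2 r3 + X⁸ r3 = b`
  have q1 := congrArg (fun w => (X ^ 6) w) r1
  have q2 := congrArg (fun w => (X ^ 2) w) r2
  have q3 := congrArg (fun w => (X ^ 8) w) r3
  simp only [map_add, xx, map_zero] at q1 q2 q3
  rw [m11 (6 + 5) 0 (by norm_num), m11 (6 + 9) 4 (by norm_num)] at q1
  rw [m11 (2 + 10) 1 (by norm_num)] at q2
  rw [m11 (8 + 3) 0 (by norm_num), m11 (8 + 4) 1 (by norm_num), m11 (8 + 6) 3 (by norm_num),
    m11 (8 + 7) 4 (by norm_num)] at q3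
  simp only [Nat.reduceAdd, pow_zero, Module.End.one_apply] at q1 q2 q3
  have hb0 : b = 0 := by
    have e : b = ((X ^ 6) b + (X ^ 7) b + (X ^ 9) b + (X ^ 10) b + b + (X ^ 4) b) +
        (((X ^ 4) b + (X ^ 8) b + (X ^ 9) b + (X ^ 10) b + (X ^ 1) b) +
        ((X ^ 4) b + (X ^ 8) b + (X ^ 9) b + (X ^ 10) b + (X ^ 1) b)) +
        (((X ^ 3) b + (X ^ 4) b + (X ^ 6) b + (X ^ 7) b + b) + ((X ^ 3) b + (X ^ 4) b + (X ^ 6) b + (X ^ 7) b + b)) +
        (b + (X ^ 1) b + (X ^ 3) b + (X ^ 4) b + (X ^ 8) b) -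
        ((b + b + b) + ((X ^ 1) b + (X ^ 1) b + (X ^ 1) b) + ((X ^ 3) b + (X ^ 3) b + (X ^ 3) b) +
        (((X ^ 4) b + (X ^ 4) b + (X ^ 4) b) + ((X ^ 4) b + (X ^ 4) b + (X ^ 4) b)) +
        ((X ^ 6) b + (X ^ 6) b + (X ^ 6) b) + ((X ^ 7) b + (X ^ 7) b + (X ^ 7) b) + ((X ^ 8) b + (X ^ 8) b + (X ^ 8) b) +
        ((X ^ 9) b + (X ^ 9) b + (X ^ 9) b) + ((X ^ 10) b + (X ^ 10) b + (X ^ 10) b)) := by abel
    rw [e, r3]
    simp only [c3, q1, q2, q3, add_zero, sub_zero]
  have hT : T v = v := by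
    rw [Tv, hb0, zero_add]
  exact h0 v f.x f.y hT

end module

end Rel

end Cfsg.Agent.H779.L11
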